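import Groth.Prelude.Def_FinFr

/-! extension by zero along the identity -/

set_option autoImplicit false

universe u

open CategoryTheory CategoryTheory.Limits AlgebraicGeometry Opposite
open scoped BigOperators

namespace Groth.Agent.SGA4hFrob.DimZero

set_option backward.isDefEq.respectTransparency.types false

/-- extension by zero along the identity is isomorphic to the identity -/
theorem exists_extZeroId (X : Scheme.{u}) [EtShriek.JCont (𝟙 X)] :
    Nonempty (EtShriek.extZero (𝟙 X) ≅ 𝟭 (EtCoh.Ab X)) := by
  let e : EtShriek.compEtale (𝟙 X) ≅ 𝟭 X.Etale :=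
    NatIso.ofComponents (fun U => MorphismProperty.Over.isoMk (Iso.refl U.left)
      (by simp)) (fun g => MorphismProperty.Over.Hom.ext (by
        change g.left ≫ 𝟙 _ = 𝟙 _ ≫ g.left
        rw [Category.comp_id, Category.id_comp]))
  let r : EtShriek.restrAlong (𝟙 X) ≅ 𝟭 (EtCoh.Ab X) :=
    NatIso.ofComponents
      (fun G => (fullyFaithfulSheafToPresheaf X.smallEtaleTopology AddCommGrpCat.{u + 1}).preimageIso
        (Functor.isoWhiskerRight (NatIso.op e.symm) G.obj))
      (fun {G G'} φ => by
        apply Sheaf.hom_ext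
        ext U : 2
        change φ.hom.app _ ≫ G'.obj.map _ = G.obj.map _ ≫ φ.hom.app U
        exact (φ.hom.naturality _).symm)
  exact ⟨Adjunction.leftAdjointUniq (EtShriek.extZeroAdj (𝟙 X))
    ((Adjunction.id (C := EtCoh.Ab X)).ofNatIsoRight r.symm)⟩

end Groth.Agent.SGA4hFrob.DimZero
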