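import Groth.Agent.SGA4hFrob.ViaLin
import Groth.Agent.SGA4hFrob.FiniteOverField

/-! rational points as fixed geometric points -/

set_option autoImplicit false

universe u

open CategoryTheory CategoryTheory.Limits AlgebraicGeometry Opposite
open scoped BigOperators

namespace Groth.Agent.SGA4hFrob.DimZero

set_option backward.isDefEq.respectTransparency.types false

variable {k : Type u} [Field k] {K : Type u} [Field K] [Algebra k K] {Λ : Type} [Field Λ]
  [Fact FinFr.PullExact.{u}] {X₀ : Scheme.{u}} (a : X₀ ⟶ Spec (CommRingCat.of k)) (L : EtLam.Sheaf Λ X₀)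

/-- the trace at a fixed point, read on `Spec K` -/
theorem trace_via_eq [IsAlgClosed K] (τ : K ≃ₐ[k] K) (x : Spec (CommRingCat.of k) ⟶ X₀)
    (y : Spec (CommRingCat.of K) ⟶ X₀) (hxy : FinFr.specι k K ≫ x = y)
    (hy : Spec.map (CommRingCat.ofHom (τ : K →+* K)) ≫ y = y) :
    LinearMap.trace Λ _ (viaLin (Spec.map (CommRingCat.ofHom (τ : K →+* K))) y y hy L 0) =
      LinearMap.trace Λ _ (FinFr.galLin (𝟙 (Spec (CommRingCat.of k))) τ (EtLam.pullback x L) 0) := by
  let I := 𝟙 (Spec (CommRingCat.of k))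
  let j : Spec (CommRingCat.of K) ⟶ FinFr.ext K I :=
    pullback.lift (FinFr.specι k K) (𝟙 _) (by simp [I])
  haveI : IsIso (FinFr.extStr K I) := inferInstanceAs (IsIso (pullback.snd (𝟙 _) _))
  haveI : IsIso (j ≫ FinFr.extStr K I) := by
    rw [show j ≫ FinFr.extStr K I = 𝟙 _ from pullback.lift_snd _ _ _]; infer_instance
  haveI : IsIso j := IsIso.of_isIso_comp_right j (FinFr.extStr K I)
  have hj : j ≫ FinFr.extπ K I = FinFr.specι k K := pullback.lift_fst _ _ _
  let t := FinFr.extπ K I ≫ x
  have hjt : j ≫ t = y := by rw [← Category.assoc, hj, hxy]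
  have hA : FinFr.galAct I τ ≫ t = t := by rw [← Category.assoc]; exact congrArg (· ≫ x) (FinFr.galAct_fst I τ)
  have hT : Spec.map (CommRingCat.ofHom (τ : K →+* K)) ≫ j = j ≫ FinFr.galAct I τ := by
    apply pullback.hom_ext
    · rw [Category.assoc, Category.assoc]
      refine (congrArg (_ ≫ ·) hj).trans ((FinFr.specMap_algEquiv_comp_specι τ).trans ?_)
      exact ((congrArg (j ≫ ·) (FinFr.galAct_fst I τ)).trans hj).symm
    · rw [Category.assoc, Category.assoc]
      refine (congrArg (_ ≫ ·) (pullback.lift_snd _ _ _)).trans ((Category.comp_id _).trans ?_)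
      refine Eq.trans ?_ (congrArg (j ≫ ·) (FinFr.galAct_snd I τ)).symm
      exact ((Category.assoc _ _ _).symm.trans ((congrArg (· ≫ _) (pullback.lift_snd _ _ _)).trans
        (Category.id_comp _))).symm
  let Ψ := (LinearEquiv.ofBijective (targetLin (FinFr.extπ K I) x t rfl L 0)
      (targetLin_bijective _ _ _ _ _ _)).trans
    (LinearEquiv.ofBijective (viaLin j t y hjt L 0) (via_bijective_of_isIso j t y hjt L.carrier 0))
  have hc : ∀ z, Ψ (FinFr.galLin I τ (EtLam.pullback x L) 0 z) =
      viaLin (Spec.map (CommRingCat.ofHom (τ : K →+* K))) y y hy L 0 (Ψ z) := by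
    intro z
    change via j t y hjt L.carrier 0 (Sheaf.H.map ((viaIso (FinFr.extπ K I) x t rfl).hom.app L.carrier) 0
      (via (FinFr.galAct I τ) (FinFr.extπ K I) (FinFr.extπ K I) (FinFr.galAct_fst I τ)
        ((EtCoh.pull x).obj L.carrier) 0 z)) = via _ y y hy L.carrier 0 (via j t y hjt L.carrier 0 _)
    rw [via_target _ _ _ _ x t t rfl rfl hA]
    have e1 : (Spec.map (CommRingCat.ofHom (τ : K →+* K)) ≫ j) ≫ t = y := by rw [Category.assoc, hjt, hy]
    rw [via_comp j (FinFr.galAct I τ) _ t t y hT.symm hA hjt e1, via_comp _ j _ t y y rfl hjt hy e1]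
    rfl
  rw [← LinearMap.trace_conj' _ Ψ]
  congr 1
  refine LinearMap.ext fun v => ?_
  rw [LinearEquiv.conj_apply_apply, hc, LinearEquiv.apply_symm_apply]

theorem exists_ratPt [Fintype k] [Algebra.IsAlgebraic k K] [IsFinite a] (y : Spec (CommRingCat.of K) ⟶ X₀)
    (hya : y ≫ a = FinFr.specι k K)
    (hy : Spec.map (CommRingCat.ofHom ((FinFr.arith k K).symm : K →+* K)) ≫ y = y) :
    ∃ x : FinFr.RatPt a, FinFr.specι k K ≫ x.1 = y := by
  haveI : IsAffine X₀ := isAffine_of_isAffineHom a
  obtain ⟨χ, hχ⟩ := Spec.map_surjective (y ≫ X₀.isoSpec.hom)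
  have hfix : ∀ r, (χ.hom r) ^ Fintype.card k = χ.hom r := by
    intro r
    have e : χ ≫ CommRingCat.ofHom ((FinFr.arith k K).symm : K →+* K) = χ := Spec.map_injective (by
      rw [Spec.map_comp, hχ, ← Category.assoc, hy])
    have e' : (FinFr.arith k K).symm (χ.hom r) = χ.hom r := congrArg (fun m : _ ⟶ CommRingCat.of K => m.hom r) e
    exact ((FinFr.arith k K).symm_apply_eq.1 e').symm
  have hrange : ∀ r, ∃ c : k, algebraMap k K c = χ.hom r := by
    classical
    intro r
    by_contra hc
    have hp : (Polynomial.X ^ Fintype.card k - Polynomial.X : Polynomial K) ≠ 0 :=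
      FiniteField.X_pow_card_sub_X_ne_zero K Fintype.one_lt_card
    have hsub : insert (χ.hom r) (Finset.univ.image (algebraMap k K)) ⊆
        (Polynomial.X ^ Fintype.card k - Polynomial.X : Polynomial K).roots.toFinset := by
      intro z hz
      rw [Multiset.mem_toFinset, Polynomial.mem_roots hp]
      rcases Finset.mem_insert.1 hz with rfl | hz
      · simp [hfix]
      · obtain ⟨c, -, rfl⟩ := Finset.mem_image.1 hz
        simp [← map_pow, FiniteField.pow_card]
    have h1 := (Finset.card_le_card hsub).trans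
      ((Multiset.toFinset_card_le _).trans (Polynomial.card_roots' _))
    rw [FiniteField.X_pow_card_sub_X_natDegree_eq K Fintype.one_lt_card,
      Finset.card_insert_of_notMem (by simpa using hc),
      Finset.card_image_of_injective _ (algebraMap k K).injective, Finset.card_univ] at h1
    omega
  choose ψ hψ using hrange
  have hinj := (algebraMap k K).injective
  let Ψ : Γ(X₀, ⊤) →+* k :=
    { toFun := ψ
      map_one' := hinj (by simp [hψ])
      map_mul' := fun r r' => hinj (by simp [hψ])
      map_zero' := hinj (by simp [hψ])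
      map_add' := fun r r' => hinj (by simp [hψ]) }
  have hc : CommRingCat.ofHom Ψ ≫ CommRingCat.ofHom (algebraMap k K) = χ :=
    CommRingCat.hom_ext (RingHom.ext hψ)
  let x : Spec (CommRingCat.of k) ⟶ X₀ := Spec.map (CommRingCat.ofHom Ψ) ≫ X₀.isoSpec.inv
  have hx : FinFr.specι k K ≫ x = y := by
    change Spec.map _ ≫ Spec.map _ ≫ _ = y
    rw [← Spec.map_comp_assoc, hc, hχ, Category.assoc, Iso.hom_inv_id, Category.comp_id]
  refine ⟨⟨x, ?_⟩, hx⟩
  obtain ⟨m, hm⟩ := Spec.map_surjective (x ≫ a)
  have : m ≫ CommRingCat.ofHom (algebraMap k K) = CommRingCat.ofHom (algebraMap k K) := Spec.map_injective (by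
    rw [Spec.map_comp, hm, ← Category.assoc]
    exact (congrArg (· ≫ a) hx).trans hya)
  rw [← hm, show m = 𝟙 _ from CommRingCat.hom_ext (RingHom.ext fun c =>
    (algebraMap k K).injective (congrArg (fun m : _ ⟶ CommRingCat.of K => m.hom c) this)), Spec.map_id]

end Groth.Agent.SGA4hFrob.DimZero
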