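import Groth.Agent.SGA4hFrob.DimZero.Block
import Groth.Agent.SGA4hFrob.DimZero.Point
import Mathlib.LinearAlgebra.Trace

/-! the trace of Frobenius in degree zero -/

set_option autoImplicit false

universe u

open CategoryTheory CategoryTheory.Limits AlgebraicGeometry Opposite
open scoped BigOperators

namespace Groth.Agent.SGA4hFrob.DimZero

set_option backward.isDefEq.respectTransparency.types false

theorem trace_eq_sum_diag {Λ : Type*} [Field Λ] {ι : Type*} [Fintype ι] [DecidableEq ι] {V : Type*}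
    [AddCommGroup V] [Module Λ V] {W : ι → Type*} [∀ i, AddCommGroup (W i)] [∀ i, Module Λ (W i)]
    [∀ i, FiniteDimensional Λ (W i)] (D : V ≃ₗ[Λ] ∀ i, W i) (g : V →ₗ[Λ] V) :
    LinearMap.trace Λ V g =
      ∑ i, LinearMap.trace Λ (W i) ((LinearMap.proj i).comp ((D.conj g).comp (LinearMap.single Λ W i))) := by
  rw [← LinearMap.trace_conj' g D]
  conv_lhs =>
    rw [show D.conj g = ∑ i, (D.conj g).comp ((LinearMap.single Λ W i).comp (LinearMap.proj i)) from
      LinearMap.ext fun v => by
        simp only [LinearMap.sum_apply, LinearMap.comp_apply, LinearMap.proj_apply, ← map_sum,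
          LinearMap.coe_single, LinearMap.sum_single_apply]]
  rw [map_sum]
  exact Finset.sum_congr rfl fun i _ => LinearMap.trace_comp_comm' (LinearMap.proj i)
    ((D.conj g).comp (LinearMap.single Λ W i))

variable {k : Type u} [Field k] {K : Type u} [Field K] [Algebra k K] {Λ : Type} [Field Λ]
  [Fact FinFr.PullExact.{u}] {X₀ : Scheme.{u}} (a : X₀ ⟶ Spec (CommRingCat.of k)) (L : EtLam.Sheaf Λ X₀)

theorem trace_frob_zero [Fintype k] [IsAlgClosed K] [Algebra.IsAlgebraic k K] [Finite Λ] [IsFinite a]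
    (hL : EtLam.IsConstructible L) :
    LinearMap.trace Λ _ (FinFr.frob (K := K) a L 0) = ∑ᶠ x : FinFr.RatPt a, FinFr.locTrace (K := K) x.1 L := by
  classical
  haveI : IsLocallyNoetherian X₀ := LocallyOfFiniteType.isLocallyNoetherian a
  haveI : CompactSpace X₀ := QuasiCompact.compactSpace_of_compactSpace a
  haveI : Finite (Sect a K) := EtFound.finite_points (FinFr.extStr K a) (𝟙 _)
  haveI := Fintype.ofFinite (Sect a K)
  haveI : ∀ s : Sect a K, FiniteDimensional Λ
      (EtCoh.H (Spec (CommRingCat.of K)) (EtLam.pullback (s.1 ≫ FinFr.extπ K a) L).carrier 0) := fun s =>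
    haveI := finite_H_pullback_point L hL (s.1 ≫ FinFr.extπ K a)
    Module.Finite.of_finite
  set τ := (FinFr.arith k K).symm with hτ
  let ι : FinFr.RatPt a → Sect a K := fun x =>
    ⟨pullback.lift (FinFr.specι k K ≫ x.1) (𝟙 _) (by rw [Category.assoc, x.2, Category.comp_id, Category.id_comp]),
      pullback.lift_snd _ _ _⟩
  have hι : ∀ x, (ι x).1 ≫ FinFr.extπ K a = FinFr.specι k K ≫ x.1 := fun x => pullback.lift_fst _ _ _
  have hιinj : Function.Injective ι := by
    intro x x' h
    have e : FinFr.specι k K ≫ x.1 = FinFr.specι k K ≫ x'.1 := by rw [← hι x, h, hι x']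
    haveI : IsAffine X₀ := isAffine_of_isAffineHom a
    obtain ⟨φ, hφ⟩ := Spec.map_surjective (x.1 ≫ X₀.isoSpec.hom)
    obtain ⟨φ', hφ'⟩ := Spec.map_surjective (x'.1 ≫ X₀.isoSpec.hom)
    have e2 : φ ≫ CommRingCat.ofHom (algebraMap k K) = φ' ≫ CommRingCat.ofHom (algebraMap k K) :=
      Spec.map_injective (by rw [Spec.map_comp, Spec.map_comp, hφ, hφ', ← Category.assoc, ← Category.assoc, e])
    have e3 : φ = φ' := CommRingCat.hom_ext (RingHom.ext fun r =>
      (algebraMap k K).injective (congrArg (fun m : _ ⟶ CommRingCat.of K => m.hom r) e2))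
    exact Subtype.ext ((cancel_mono X₀.isoSpec.hom).1 (hφ.symm.trans ((congrArg Spec.map e3).trans hφ')))
  haveI : Finite (FinFr.RatPt a) := Finite.of_injective ι hιinj
  haveI := Fintype.ofFinite (FinFr.RatPt a)
  change LinearMap.trace Λ _ (FinFr.galLin a τ L 0) = _
  rw [trace_eq_sum_diag (decomp a L) (FinFr.galLin a τ L 0), finsum_eq_sum_of_fintype]
  refine ((Fintype.sum_of_injective ι hιinj _ (fun s => LinearMap.trace Λ _ (block a L τ s)) ?_ ?_).symm)
  · intro s hs
    rw [block_eq_zero a L τ s, map_zero]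
    intro e
    have hya : (s.1 ≫ FinFr.extπ K a) ≫ a = FinFr.specι k K := by
      rw [Category.assoc]
      exact (congrArg (s.1 ≫ ·) pullback.condition).trans (by rw [reassoc_of% s.2])
    obtain ⟨x, hx⟩ := exists_ratPt a _ hya e
    refine hs ⟨x, Subtype.ext (pullback.hom_ext ?_ ?_)⟩
    · exact (hι x).trans hx
    · exact (ι x).2.trans s.2.symm
  · intro x
    have hs : Spec.map (CommRingCat.ofHom (τ : K →+* K)) ≫ ((ι x).1 ≫ FinFr.extπ K a) =
        (ι x).1 ≫ FinFr.extπ K a := by
      rw [hι x, ← Category.assoc, FinFr.specMap_algEquiv_comp_specι]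
    rw [block_eq_via a L τ (ι x) hs]
    exact (trace_via_eq L τ x.1 _ (hι x).symm hs).symm

end Groth.Agent.SGA4hFrob.DimZero
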