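import Groth.Agent.SGA4hFrob.DimZero.Decomp

/-! diagonal blocks of the Galois action -/

set_option autoImplicit false

universe u

open CategoryTheory CategoryTheory.Limits AlgebraicGeometry Opposite
open scoped BigOperators

namespace Groth.Agent.SGA4hFrob.DimZero

set_option backward.isDefEq.respectTransparency.types false

variable {k : Type u} [Field k] {K : Type u} [Field K] [Algebra k K] {Λ : Type} [Field Λ]
  [Fact FinFr.PullExact.{u}] {X₀ : Scheme.{u}} (a : X₀ ⟶ Spec (CommRingCat.of k)) (L : EtLam.Sheaf Λ X₀)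

theorem block_apply [IsAlgClosed K] [IsFinite a] [DecidableEq (Sect a K)] (τ : K ≃ₐ[k] K) (s : Sect a K)
    (v : EtCoh.H (Spec (CommRingCat.of K)) (EtLam.pullback (s.1 ≫ FinFr.extπ K a) L).carrier 0)
    (s' : Sect a K) (y : Spec (CommRingCat.of K) ⟶ X₀)
    (h : Spec.map (CommRingCat.ofHom (τ : K →+* K)) ≫ s'.1 = s.1 ≫ FinFr.galAct a τ)
    (hy : Spec.map (CommRingCat.ofHom (τ : K →+* K)) ≫ (s'.1 ≫ FinFr.extπ K a) = s.1 ≫ FinFr.extπ K a) :
    block a L τ s v =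
      via (Spec.map (CommRingCat.ofHom (τ : K →+* K))) (s'.1 ≫ FinFr.extπ K a) (s.1 ≫ FinFr.extπ K a) hy
        L.carrier 0 ((Pi.single s v : ∀ t : Sect a K, EtCoh.H (Spec (CommRingCat.of K))
          (EtLam.pullback (t.1 ≫ FinFr.extπ K a) L).carrier 0) s') := by
  have hA : (s.1 ≫ FinFr.galAct a τ) ≫ FinFr.extπ K a = s.1 ≫ FinFr.extπ K a := by
    rw [Category.assoc]
    exact congrArg (s.1 ≫ ·) (FinFr.galAct_fst a τ)
  set x := (decomp a L).symm (Pi.single s v)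
  change via s.1 (FinFr.extπ K a) (s.1 ≫ FinFr.extπ K a) rfl L.carrier 0
    (via (FinFr.galAct a τ) (FinFr.extπ K a) (FinFr.extπ K a) (FinFr.galAct_fst a τ) L.carrier 0 x) = _
  rw [via_comp s.1 (FinFr.galAct a τ) _ (FinFr.extπ K a) (FinFr.extπ K a) _ rfl _ rfl hA,
    ← via_comp _ s'.1 _ (FinFr.extπ K a) (s'.1 ≫ FinFr.extπ K a) _ h rfl hy hA]
  refine congrArg _ ?_
  rw [← decomp_apply, LinearEquiv.apply_symm_apply]

theorem galAct_comp_cancel (τ : K ≃ₐ[k] K) :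
    Spec.map (CommRingCat.ofHom (τ : K →+* K)) ≫ Spec.map (CommRingCat.ofHom (τ.symm : K →+* K)) = 𝟙 _ := by
  rw [← Spec.map_comp, show CommRingCat.ofHom (τ.symm : K →+* K) ≫ CommRingCat.ofHom (τ : K →+* K) = 𝟙 _ from
    CommRingCat.hom_ext (RingHom.ext fun z => τ.apply_symm_apply z), Spec.map_id]

theorem block_eq_zero [IsAlgClosed K] [IsFinite a] [DecidableEq (Sect a K)] (τ : K ≃ₐ[k] K) (s : Sect a K)
    (hs : Spec.map (CommRingCat.ofHom (τ : K →+* K)) ≫ (s.1 ≫ FinFr.extπ K a) ≠ s.1 ≫ FinFr.extπ K a) :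
    block a L τ s = 0 := by
  have hb : (Spec.map (CommRingCat.ofHom (τ.symm : K →+* K)) ≫ s.1 ≫ FinFr.galAct a τ) ≫ FinFr.extStr K a = 𝟙 _ := by
    rw [Category.assoc, Category.assoc]
    refine (congrArg (fun m => _ ≫ s.1 ≫ m) (FinFr.galAct_snd a τ)).trans ?_
    rw [reassoc_of% s.2]
    exact galAct_comp_cancel τ.symm
  let s' : Sect a K := ⟨_, hb⟩
  have h : Spec.map (CommRingCat.ofHom (τ : K →+* K)) ≫ s'.1 = s.1 ≫ FinFr.galAct a τ := by
    rw [← Category.assoc, galAct_comp_cancel, Category.id_comp]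
  have hy : Spec.map (CommRingCat.ofHom (τ : K →+* K)) ≫ (s'.1 ≫ FinFr.extπ K a) = s.1 ≫ FinFr.extπ K a := by
    rw [← Category.assoc, h, Category.assoc]
    exact congrArg (s.1 ≫ ·) (FinFr.galAct_fst a τ)
  have hne : s' ≠ s := fun e => hs (by rw [e] at hy; exact hy)
  refine LinearMap.ext fun v => ?_
  rw [block_apply a L τ s v s' (s'.1 ≫ FinFr.extπ K a) h hy, Pi.single_eq_of_ne hne]
  exact map_zero _

theorem block_eq_via [IsAlgClosed K] [IsFinite a] [DecidableEq (Sect a K)] (τ : K ≃ₐ[k] K) (s : Sect a K)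
    (hs : Spec.map (CommRingCat.ofHom (τ : K →+* K)) ≫ (s.1 ≫ FinFr.extπ K a) = s.1 ≫ FinFr.extπ K a) :
    block a L τ s = viaLin (Spec.map (CommRingCat.ofHom (τ : K →+* K))) _ _ hs L 0 := by
  have h : Spec.map (CommRingCat.ofHom (τ : K →+* K)) ≫ s.1 = s.1 ≫ FinFr.galAct a τ := by
    apply pullback.hom_ext
    · rw [Category.assoc, Category.assoc]
      exact hs.trans (congrArg (s.1 ≫ ·) (FinFr.galAct_fst a τ)).symm
    · rw [Category.assoc, Category.assoc]
      refine (congrArg (_ ≫ ·) s.2).trans ((Category.comp_id _).trans ?_)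
      refine Eq.trans ?_ (congrArg (s.1 ≫ ·) (FinFr.galAct_snd a τ)).symm
      rw [reassoc_of% s.2]
  refine LinearMap.ext fun v => ?_
  rw [block_apply a L τ s v s (s.1 ≫ FinFr.extπ K a) h hs, Pi.single_eq_same]
  rfl

end Groth.Agent.SGA4hFrob.DimZero
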