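import Groth.Agent.SGA4hFrob.FiniteOverField
import Groth.Agent.SGA4hFrob.ViaLin

/-! decomposition of degree zero cohomology of a finite scheme over an algebraically closed field -/

set_option autoImplicit false

universe u

open CategoryTheory CategoryTheory.Limits AlgebraicGeometry Opposite
open scoped BigOperators

namespace Groth.Agent.SGA4hFrob.DimZero

set_option backward.isDefEq.respectTransparency.types false

variable {k : Type u} [Field k] {K : Type u} [Field K] [Algebra k K] {Λ : Type} [Field Λ]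
  [Fact FinFr.PullExact.{u}] {X₀ : Scheme.{u}} (a : X₀ ⟶ Spec (CommRingCat.of k)) (L : EtLam.Sheaf Λ X₀)

/-- the sections of `X₀ ⊗ K → Spec K` -/
abbrev Sect (K : Type u) [Field K] [Algebra k K] : Type u :=
  {s : Spec (CommRingCat.of K) ⟶ FinFr.ext K a // s ≫ FinFr.extStr K a = 𝟙 _}

/-- decomposition of degree zero cohomology -/
noncomputable def decomp [IsAlgClosed K] [IsFinite a] :
    EtCoh.H (FinFr.ext K a) (EtLam.pullback (FinFr.extπ K a) L).carrier 0 ≃ₗ[Λ]
      ∀ s : Sect a K, EtCoh.H (Spec (CommRingCat.of K)) (EtLam.pullback (s.1 ≫ FinFr.extπ K a) L).carrier 0 :=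
  LinearEquiv.ofBijective (LinearMap.pi fun s : Sect a K => viaLin s.1 (FinFr.extπ K a) _ rfl L 0)
    (via_sections_bijective (FinFr.extStr K a) (FinFr.extπ K a) L.carrier)

theorem decomp_apply [IsAlgClosed K] [IsFinite a]
    (z : EtCoh.H (FinFr.ext K a) (EtLam.pullback (FinFr.extπ K a) L).carrier 0) (s : Sect a K) :
    decomp a L z s = via s.1 (FinFr.extπ K a) _ rfl L.carrier 0 z := rfl

/-- the diagonal block of `galLin` at a section -/
noncomputable def block [IsAlgClosed K] [IsFinite a] [DecidableEq (Sect a K)] (τ : K ≃ₐ[k] K) (s : Sect a K) :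
    EtCoh.H (Spec (CommRingCat.of K)) (EtLam.pullback (s.1 ≫ FinFr.extπ K a) L).carrier 0 →ₗ[Λ]
      EtCoh.H (Spec (CommRingCat.of K)) (EtLam.pullback (s.1 ≫ FinFr.extπ K a) L).carrier 0 :=
  (LinearMap.proj s).comp (((decomp a L).conj (FinFr.galLin a τ L 0)).comp (LinearMap.single Λ _ s))

end Groth.Agent.SGA4hFrob.DimZero
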